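import Groth.Agent.WeightStrat.Sections
import Groth.Agent.EtaleSplit.Bound
import Groth.Agent.ChevAffine.Finite

/-!
# The locus of maximal weight is affine
-/

set_option autoImplicit false
set_option backward.isDefEq.respectTransparency false
set_option linter.style.haveILetI false
set_option maxHeartbeats 1000000

open AlgebraicGeometry CategoryTheory Limits MoreMor Groth.Agent.EtaleSplit

universe u

namespace Groth.Agent.WeightStrat

/-- Tuple spaces. -/
theorem exists_tuples {X Y : Scheme.{u}} (f : X ⟶ Y) [IsAffine X] [Y.IsSeparated] (Yd : Y.Opens)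
    [IsFinite (f ∣_ Yd)] (n : ℕ) :
    ∃ (P : Scheme.{u}) (p : P ⟶ Y) (σ : Fin (n + 1) → (P ⟶ X)), IsAffine P ∧ IsFinite (p ∣_ Yd) ∧
      (∀ k, σ k ≫ f = p) ∧ ∀ (Ω : Type u) [Field Ω] (q : Spec (.of Ω) ⟶ Y) (r : Fin (n + 1) → GPts f q),
        ∃ z : Spec (.of Ω) ⟶ P, z ≫ p = q ∧ ∀ k, z ≫ σ k = (r k).1 := by
  induction n with
  | zero =>
    exact ⟨X, f, fun _ => 𝟙 X, inferInstance, inferInstance, fun _ => Category.id_comp f,
      fun Ω _ q r => ⟨(r 0).1, (r 0).2, fun k => by rw [Category.comp_id, Fin.fin_one_eq_zero k]⟩⟩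
  | succ n ih =>
    obtain ⟨P, p, σ, hP, hp, hσ, hlift⟩ := ih
    haveI : IsSeparated (terminal.from Y) := (inferInstance : Y.IsSeparated).1
    haveI : IsAffineHom p := by
      haveI : IsAffineHom (p ≫ terminal.from Y) := inferInstance
      exact IsAffineHom.of_comp p (terminal.from Y)
    haveI : IsAffineHom (pullback.snd p f) := MorphismProperty.pullback_snd _ _ inferInstance
    refine ⟨pullback p f, pullback.fst p f ≫ p, Fin.snoc (fun k => pullback.fst p f ≫ σ k) (pullback.snd p f),
      isAffine_of_isAffineHom (pullback.snd p f), ?_, ?_, ?_⟩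
    · rw [morphismRestrict_comp]
      let V := p ⁻¹ᵁ Yd
      have h1 : IsPullback ((pullback.fst p f ⁻¹ᵁ V).ι ≫ pullback.snd p f) (pullback.fst p f ∣_ V) f ((p ∣_ Yd) ≫ Yd.ι) := by
        rw [morphismRestrict_ι]
        exact (isPullback_morphismRestrict (pullback.fst p f) V).flip.paste_horiz (IsPullback.of_hasPullback p f).flip
      let l := (isPullback_morphismRestrict f Yd).lift (pullback.fst p f ∣_ V ≫ p ∣_ Yd)
        ((pullback.fst p f ⁻¹ᵁ V).ι ≫ pullback.snd p f) (by rw [Category.assoc]; exact h1.w.symm)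
      have hl : IsPullback l (pullback.fst p f ∣_ V) (f ∣_ Yd) (p ∣_ Yd) := by
        refine IsPullback.of_right (h₁₂ := (f ⁻¹ᵁ Yd).ι) (h₂₂ := Yd.ι) ?_ ?_
          (isPullback_morphismRestrict f Yd).flip
        · rw [IsPullback.lift_snd]; exact h1
        · exact IsPullback.lift_fst _ _ _ _
      haveI : IsFinite (pullback.fst p f ∣_ V) := MorphismProperty.of_isPullback hl inferInstance
      infer_instance
    · intro k
      refine Fin.lastCases ?_ (fun k => ?_) k
      · rw [Fin.snoc_last, pullback.condition]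
      · rw [Fin.snoc_castSucc, Category.assoc, hσ]
    · intro Ω _ q r
      obtain ⟨z, hz, hzk⟩ := hlift Ω q fun k => r k.castSucc
      refine ⟨pullback.lift z (r (Fin.last _)).1 (hz.trans (r (Fin.last _)).2.symm), ?_, fun k => ?_⟩
      · rw [pullback.lift_fst_assoc, hz]
      · refine Fin.lastCases ?_ (fun k => ?_) k
        · rw [Fin.snoc_last, pullback.lift_snd]
        · rw [Fin.snoc_castSucc, pullback.lift_fst_assoc, hzk]

/-- The locus of maximal weight is affine. -/
theorem isAffine_max {X Y : Scheme.{u}} (f : X ⟶ Y) [LocallyQuasiFinite f] [LocallyOfFiniteType f]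
    [QuasiCompact f] [IsAffine X] [Y.IsSeparated] {w : X → ℤ} (hw : IsWeighting f w) (hpos : ∀ x, 0 < w x)
    (d : ℤ) (hd : 0 < d) (hmax : ∀ y, fibreIntegral f w y ≤ d) :
    ∃ Yd : Y.Opens, (Yd : Set Y) = {y | fibreIntegral f w y = d} ∧ IsAffineOpen Yd := by
  classical
  haveI : IsSeparated (terminal.from Y) := (inferInstance : Y.IsSeparated).1
  haveI : IsSeparated f := inferInstance
  have hfin : ∀ y : Y, (f ⁻¹' {y}).Finite := fun y => f.finite_preimage_singleton y
  obtain ⟨hYd, hfinite⟩ := IsWeighting.finite_over_max hfin hw hpos d hmax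
  let Yd : Y.Opens := ⟨_, hYd⟩
  haveI : IsFinite (f ∣_ Yd) := hfinite
  refine ⟨Yd, rfl, ?_⟩
  obtain ⟨n, hn⟩ : ∃ n : ℕ, d = (n : ℤ) + 1 := ⟨(d - 1).toNat, by omega⟩
  obtain ⟨P, p, σ, hP, hp, hσ, hlift⟩ := exists_tuples f Yd n
  -- the base change to the tuple space
  let fP := pullback.snd f p
  let wP : ↑(pullback f p) → ℤ := fun z => w (pullback.fst f p z)
  have hc : IsPullback (pullback.fst f p) fP f p := IsPullback.of_hasPullback f p
  haveI : LocallyQuasiFinite fP := MorphismProperty.pullback_snd _ _ inferInstance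
  haveI : LocallyOfFiniteType fP := MorphismProperty.pullback_snd _ _ inferInstance
  haveI : IsSeparated fP := MorphismProperty.pullback_snd _ _ inferInstance
  haveI : QuasiCompact fP := MorphismProperty.pullback_snd _ _ inferInstance
  have hfinP : ∀ y : P, (fP ⁻¹' {y}).Finite := fun y => fP.finite_preimage_singleton y
  have hwP : IsWeighting fP wP := IsWeighting.baseChange hw hc
  let τ : Fin (n + 1) → (P ⟶ pullback f p) := fun k => pullback.lift (σ k) (𝟙 P) (by simp [hσ])
  let C : Set ↑(pullback f p) := ⋃ k, Set.range (τ k)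
  let F := fibreIntegral fP (C.indicator wP)
  have husc : UpperSemicontinuous F := upperSemicontinuous_sections hfinP hwP (fun z => hpos _) τ
    fun k => pullback.lift_snd _ _ _
  let Wt : Set P := {z | d ≤ F z}
  have hWc : IsClosed Wt := by
    have := husc.isClosed_preimage d
    exact this
  have hfull : ∀ z, fibreIntegral fP wP z = fibreIntegral f w (p z) := fun z =>
    fibreIntegral_baseChange hc w z ((hfin (p z)).subset fun _ hx => hx.2)
  have hWsub : ∀ z ∈ Wt, p z ∈ Yd := by
    intro z hz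
    show fibreIntegral f w (p z) = d
    refine le_antisymm (hmax _) (le_trans hz ?_)
    rw [← hfull]
    exact fibreIntegral_mono _ _ _ z (fun a _ => Set.indicator_le_self' (fun b _ => (hpos _).le) a)
      ((hfinP z).subset fun _ h => h.2) ((hfinP z).subset fun _ h => h.2)
  have hsurj : ∀ y ∈ Yd, ∃ z ∈ Wt, p z = y := by
    intro y hy
    let q := geomPt y
    haveI : Finite (GPts f q) := by
      have h := finite_gpts_over f q Set.univ ((hfin (pt q)).subset fun _ hx => hx.2)
      exact Set.finite_univ_iff.mp (h.subset fun p _ => trivial)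
    haveI := Fintype.ofFinite (GPts f q)
    have hy' : fibreIntegral f w y = d := hy
    have hgint : ∑ i : GPts f q, w (pt i.1) = d :=
      (finsum_eq_sum_of_fintype (fun i : GPts f q => w (pt i.1))).symm.trans
        ((gint_eq f w q ((hfin _).subset fun _ hx => hx.2)).trans
          ((congrArg (fibreIntegral f w) (pt_geomPt y)).trans hy'))
    have hcard : Fintype.card (GPts f q) ≤ n + 1 := by
      have h1 : (Fintype.card (GPts f q) : ℤ) ≤ ∑ i : GPts f q, w (pt i.1) := by
        rw [Fintype.card, Finset.card_eq_sum_ones, Nat.cast_sum]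
        exact Finset.sum_le_sum fun i _ => by have := hpos (pt i.1); omega
      omega
    haveI : Nonempty (GPts f q) := by
      by_contra h
      haveI := not_nonempty_iff.mp h
      rw [Finset.univ_eq_empty, Finset.sum_empty] at hgint
      omega
    obtain ⟨e, he⟩ : ∃ e : Fin (n + 1) → GPts f q, Function.Surjective e := by
      let ι : GPts f q ↪ Fin (n + 1) := (Fintype.equivFin _).toEmbedding.trans (Fin.castLEEmb hcard)
      exact ⟨Function.invFun ι, Function.invFun_surjective ι.injective⟩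
    obtain ⟨z, hzp, hzk⟩ := hlift _ q e
    refine ⟨pt z, ?_, by rw [← pt_comp, hzp, pt_geomPt]⟩
    show d ≤ fibreIntegral fP (C.indicator wP) (pt z)
    have hzy : p (pt z) = y := by rw [← pt_comp, hzp, pt_geomPt]
    refine le_of_eq (hy'.symm.trans ((congrArg (fibreIntegral f w) hzy.symm).trans ((hfull _).symm.trans ?_)))
    refine finsum_congr fun a => ?_
    obtain ⟨r, hr⟩ := exists_gpt fP z a.1 a.2
    obtain ⟨k, hk⟩ := he ⟨r.1 ≫ pullback.fst f p, by rw [Category.assoc, pullback.condition, reassoc_of% r.2, hzp]⟩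
    have hrk : r.1 = z ≫ τ k := by
      apply pullback.hom_ext
      · rw [Category.assoc, pullback.lift_fst, hzk, hk]
      · rw [Category.assoc, pullback.lift_snd, r.2, Category.comp_id]
    rw [Set.indicator_of_mem]
    refine Set.mem_iUnion.mpr ⟨k, pt z, ?_⟩
    rw [← hr, hrk, pt_comp]
  -- the closed affine cover
  let Z := Scheme.IdealSheafData.vanishingIdeal (⟨Wt, hWc⟩ : TopologicalSpace.Closeds P)
  have hrange : Set.range Z.subschemeι = Wt := by
    rw [Scheme.IdealSheafData.range_subschemeι, Scheme.IdealSheafData.coe_support_vanishingIdeal]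
    rfl
  haveI : IsAffine Z.subscheme := isAffine_of_isAffineHom Z.subschemeι
  let h : Z.subscheme ⟶ Yd.toScheme := IsOpenImmersion.lift Yd.ι (Z.subschemeι ≫ p) (by
    rintro _ ⟨a, rfl⟩
    rw [Scheme.Opens.range_ι]
    exact hWsub _ (hrange ▸ ⟨a, rfl⟩))
  have hh : h ≫ Yd.ι = Z.subschemeι ≫ p := IsOpenImmersion.lift_fac _ _ _
  let h₀ : Z.subscheme ⟶ (p ⁻¹ᵁ Yd).toScheme := IsOpenImmersion.lift (p ⁻¹ᵁ Yd).ι Z.subschemeι (by
    rintro _ ⟨a, rfl⟩
    rw [Scheme.Opens.range_ι]
    exact hWsub _ (hrange ▸ ⟨a, rfl⟩))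
  haveI : IsClosedImmersion h₀ := by
    haveI : IsClosedImmersion (h₀ ≫ (p ⁻¹ᵁ Yd).ι) := by rw [IsOpenImmersion.lift_fac]; infer_instance
    exact IsClosedImmersion.of_comp h₀ (p ⁻¹ᵁ Yd).ι
  have hh₀ : h = h₀ ≫ (p ∣_ Yd) := by
    rw [← cancel_mono Yd.ι, hh, Category.assoc, morphismRestrict_ι, IsOpenImmersion.lift_fac_assoc]
  haveI : IsFinite h := by rw [hh₀]; infer_instance
  haveI : Surjective h := by
    refine ⟨fun y => ?_⟩
    obtain ⟨z, hz, hzy⟩ := hsurj y.1 y.2
    obtain ⟨a, ha⟩ := (hrange ▸ hz : z ∈ Set.range Z.subschemeι)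
    refine ⟨a, Yd.ι.isOpenEmbedding.injective ?_⟩
    rw [← Scheme.Hom.comp_apply, hh, Scheme.Hom.comp_apply, ha, hzy]
    rfl
  haveI : CompactSpace Yd.toScheme := h.surjective.compactSpace h.continuous
  haveI : QuasiSeparatedSpace Y := inferInstance
  haveI : QuasiSeparatedSpace Yd.toScheme := Yd.ι.isOpenEmbedding.quasiSeparatedSpace
  exact ChevAffine.isAffine_of_finite_surjective h

end Groth.Agent.WeightStrat
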