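import Groth.Agent.EtaleSplit.Weighting2

/-!
# Weights of sections are upper semicontinuous
-/

set_option autoImplicit false
set_option backward.isDefEq.respectTransparency false
set_option backward.defeqAttrib.useBackward true
set_option linter.style.haveILetI false
set_option maxHeartbeats 1000000

open AlgebraicGeometry CategoryTheory Limits MoreMor Groth.Agent.EtaleSplit

open scoped Topology

universe u

namespace Groth.Agent.WeightStrat

/-- The weight carried by finitely many sections is upper semicontinuous. -/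
theorem upperSemicontinuous_sections {X Y : Scheme.{u}} {f : X ⟶ Y} [LocallyQuasiFinite f]
    [LocallyOfFiniteType f] [IsSeparated f] (hfin : ∀ y : Y, (f ⁻¹' {y}).Finite) {w : X → ℤ}
    (hw : IsWeighting f w) (hpos : ∀ x, 0 < w x) {κ : Type*} [Finite κ] (σ : κ → (Y ⟶ X))
    (hσ : ∀ k, σ k ≫ f = 𝟙 Y) :
    UpperSemicontinuous (fibreIntegral f ((⋃ k, Set.range (σ k) : Set X).indicator w)) := by
  classical
  intro y n hn
  let C : Set X := ⋃ k, Set.range (σ k)
  let q := geomPt y
  haveI : Finite (GPts f q) := by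
    have h := finite_gpts_over f q Set.univ ((hfin (pt q)).subset fun _ hx => hx.2)
    exact Set.finite_univ_iff.mp (h.subset fun p _ => trivial)
  haveI := Fintype.ofFinite (GPts f q)
  obtain ⟨T, g, qT, hqT, V, _, hV⟩ := exists_split f q (fun i : GPts f q => i) (fun _ => ⊤)
    (fun _ => trivial) (fun _ => f.quasiFiniteAt _)
  haveI := fun i => (hV i).1
  let W : ↑(pullback f g) → ℤ := fun z => w (pullback.fst f g z)
  let τ : κ → (T ⟶ pullback f g) := fun k => pullback.lift (g ≫ σ k) (𝟙 T) (by simp [hσ])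
  have hτ : ∀ k v, pullback.fst f g (τ k v) = σ k (g v) := fun k v => by
    rw [← Scheme.Hom.comp_apply, ← Scheme.Hom.comp_apply, pullback.lift_fst]
  have hτs : ∀ k v, pullback.snd f g (τ k v) = v := fun k v => by
    rw [← Scheme.Hom.comp_apply, pullback.lift_snd]; rfl
  -- points over `v` above the sections are the lifted sections
  have hC : ∀ z v, pullback.snd f g z = v → pullback.fst f g z ∈ C → ∃ k, z = τ k v := by
    intro z v hz hzC
    obtain ⟨k, y', hy'⟩ := Set.mem_iUnion.mp hzC
    have hy'' : y' = g v := by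
      have : f (σ k y') = y' := by rw [← Scheme.Hom.comp_apply, hσ]; rfl
      rw [← this, hy', ← Scheme.Hom.comp_apply, pullback.condition, Scheme.Hom.comp_apply, hz]
    refine ⟨k, ?_⟩
    have hmem : z ∈ Set.range (τ k) := by
      have hsq : IsPullback (τ k) g (pullback.fst f g) (σ k) := by
        refine IsPullback.of_right ?_ (pullback.lift_fst _ _ _) (IsPullback.of_hasPullback f g).flip
        rw [pullback.lift_snd, hσ]
        exact IsPullback.of_horiz_isIso ⟨by simp⟩
      rw [← hsq.isoPullback_hom_fst, Scheme.Hom.comp_base, TopCat.coe_comp, Set.range_comp,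
        Set.range_eq_univ.mpr hsq.isoPullback.hom.surjective, Set.image_univ, Scheme.Pullback.range_fst]
      exact ⟨y', hy'⟩
    obtain ⟨v', rfl⟩ := hmem
    rw [hτs] at hz
    rw [hz]
  let S : Finset (GPts f q) := Finset.univ.filter fun i => ∃ k, τ k (pt qT) ∈ V i
  have hcov : ∀ z, pullback.snd f g z = pt qT → ∃ i, z ∈ V i := by
    intro z hz
    obtain ⟨r, rfl⟩ := exists_gpt _ qT z hz
    let i : GPts f q := ⟨r.1 ≫ pullback.fst f g, by
      rw [Category.assoc, pullback.condition, reassoc_of% r.2, hqT]⟩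
    refine ⟨i, ?_⟩
    convert (hV i).2.2.1 using 2
    apply pullback.hom_ext
    · rw [pullback.lift_fst]
    · rw [pullback.lift_snd, r.2]
  have huniq : ∀ i z z', z ∈ V i → z' ∈ V i → pullback.snd f g z = pt qT → pullback.snd f g z' = pt qT → z = z' := by
    intro i z z' hz hz' h h'
    obtain ⟨r, rfl⟩ := exists_gpt _ qT z h
    obtain ⟨r', rfl⟩ := exists_gpt _ qT z' h'
    rw [(hV i).2.2.2 r hz, (hV i).2.2.2 r' hz']
  have hdisj : ∀ i j z, z ∈ V i → z ∈ V j → pullback.snd f g z = pt qT → i = j := by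
    intro i j z hzi hzj hz
    obtain ⟨r, rfl⟩ := exists_gpt _ qT z hz
    apply Subtype.ext
    have h1 := (hV i).2.2.2 r hzi
    have h2 := (hV j).2.2.2 r hzj
    rw [h1] at h2
    simpa using congrArg (fun m => m ≫ pullback.fst f g) h2
  have hbc : ∀ v, fibreIntegral (pullback.snd f g) (fun z => C.indicator w (pullback.fst f g z)) v =
      fibreIntegral f (C.indicator w) (g v) := fun v =>
    fibreIntegral_baseChange (IsPullback.of_hasPullback f g) (C.indicator w) v
      ((hfin (g v)).subset fun _ hx => hx.2)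
  have hfinT : ∀ (a : ↑(pullback f g) → ℤ) v, {z | a z ≠ 0 ∧ pullback.snd f g z = v}.Finite := fun a v =>
    (fibre_finite_baseChange f g hfin v).subset fun _ hz => hz.2
  -- at the base point
  have hat : fibreIntegral (pullback.snd f g) (fun z => C.indicator w (pullback.fst f g z)) (pt qT) =
      ∑ i ∈ S, fibreIntegral (pullback.snd f g) ((V i : Set _).indicator W) (pt qT) := by
    refine fibreIntegral_sum _ _ _ _ _ (fun i _ => hfinT _ _) fun z hz => ?_
    obtain ⟨i₀, hi₀⟩ := hcov z hz
    by_cases hzC : pullback.fst f g z ∈ C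
    · obtain ⟨k, hk⟩ := hC z _ hz hzC
      rw [Set.indicator_of_mem hzC, Finset.sum_eq_single i₀, Set.indicator_of_mem hi₀]
      · intro j _ hji
        exact Set.indicator_of_notMem (fun hj => hji (hdisj j i₀ z hj hi₀ hz)) _
      · intro h
        exact absurd (Finset.mem_filter.mpr ⟨Finset.mem_univ _, k, hk ▸ hi₀⟩) h
    · rw [Set.indicator_of_notMem hzC]
      refine (Finset.sum_eq_zero fun i hi => Set.indicator_of_notMem (fun hzi => hzC ?_) _).symm
      obtain ⟨k, hk⟩ := (Finset.mem_filter.mp hi).2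
      rw [huniq i z _ hzi hk hz (hτs k _), hτ]
      exact Set.mem_iUnion.mpr ⟨k, _, rfl⟩
  have hev : ∀ᶠ v in 𝓝 (pt qT), (∀ k, ∃ i ∈ S, τ k v ∈ V i) ∧ ∀ i ∈ S,
      fibreIntegral (pullback.snd f g) ((V i : Set _).indicator W) v =
        fibreIntegral (pullback.snd f g) ((V i : Set _).indicator W) (pt qT) := by
    refine Filter.Eventually.and (Filter.eventually_all.mpr fun k => ?_)
      ((Filter.eventually_all_finset S).mpr fun i _ =>
        (IsWeighting.isLocallyConstant hw g (V i)).eventually_eq (pt qT))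
    obtain ⟨i, hi⟩ := hcov (τ k (pt qT)) (hτs k _)
    filter_upwards [(τ k ⁻¹ᵁ V i).2.mem_nhds hi] with v hv
    exact ⟨i, Finset.mem_filter.mpr ⟨Finset.mem_univ _, k, hi⟩, hv⟩
  obtain ⟨N, hN, hNo, htN⟩ := eventually_nhds_iff.mp hev
  have ht : g (pt qT) = y := by rw [← pt_comp, hqT, pt_geomPt]
  rw [← ht]
  refine Filter.mem_of_superset (g.isOpenMap.image_mem_nhds (hNo.mem_nhds htN)) ?_
  rintro _ ⟨v, hv, rfl⟩
  refine lt_of_le_of_lt ?_ hn
  show fibreIntegral f (C.indicator w) (g v) ≤ fibreIntegral f (C.indicator w) y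
  obtain ⟨hv1, hv2⟩ := hN v hv
  rw [← hbc, ← ht, ← hbc, hat, ← Finset.sum_congr rfl hv2,
    ← fibreIntegral_sum _ S (fun z => ∑ i ∈ S, (V i : Set _).indicator W z) _ v (fun i _ => hfinT _ _) fun _ _ => rfl]
  refine fibreIntegral_mono _ _ _ v (fun z hz => ?_) (hfinT _ _) (hfinT _ _)
  by_cases hzC : pullback.fst f g z ∈ C
  · obtain ⟨k, rfl⟩ := hC z v hz hzC
    obtain ⟨i, hiS, hi⟩ := hv1 k
    rw [Set.indicator_of_mem hzC]
    exact le_trans (le_of_eq (Set.indicator_of_mem hi W).symm)
      (Finset.single_le_sum (f := fun j => (V j : Set _).indicator W (τ k v))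
        (fun j _ => Set.indicator_nonneg (fun b _ => (hpos _).le) _) hiS)
  · rw [Set.indicator_of_notMem hzC]
    exact Finset.sum_nonneg fun j _ => Set.indicator_nonneg (fun b _ => (hpos _).le) _

end Groth.Agent.WeightStrat
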